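import Cfsg.Agent.H267.HT.SubCore

/-!
# A core over a minimal subfield, continued (S3540 T1; helper267)
-/

set_option autoImplicit false
set_option linter.unusedSectionVars false

namespace Cfsg.Agent.H267.HT

open Cfsg Cfsg.Geo Matrix Cfsg.Agent.H915.LD

universe u w

variable {n : ℕ} {K : Type w} [Field K]

/-- a minimal subfield over which a set of matrices is realisable -/
theorem exists_min_subfield [Finite K] {ι : Type} [Fintype ι] [DecidableEq ι] (S : Set (Matrix ι ι K)) :
    ∃ F : Subfield K, RealisableOver F S ∧ ∀ F' : Subfield K, F' < F → ¬ RealisableOver F' S := by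
  classical
  have hT : RealisableOver (⊤ : Subfield K) S := ⟨1, fun s _ i j => Subfield.mem_top _⟩
  have key : ∀ m : ℕ, ∀ F : Subfield K, Nat.card F = m → RealisableOver F S →
      ∃ F : Subfield K, RealisableOver F S ∧ ∀ F' : Subfield K, F' < F → ¬ RealisableOver F' S := by
    intro m
    induction m using Nat.strong_induction_on with
    | _ m ih =>
      intro F hF hS
      by_cases h : ∃ F' : Subfield K, F' < F ∧ RealisableOver F' S
      · obtain ⟨F', h1, h2⟩ := h
        refine ih (Nat.card F') ?_ F' rfl h2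
        rw [← hF]
        have h3 : (F' : Set K) ⊂ (F : Set K) := h1
        have h4 := Set.ncard_lt_ncard h3 (Set.toFinite _)
        rwa [← Nat.card_coe_set_eq, ← Nat.card_coe_set_eq] at h4
      · push Not at h
        exact ⟨F, hS, h⟩
  exact key _ ⊤ rfl hT

/-- commuting with an absolutely irreducible group -/
theorem mem_scalars_of_central {F : Type*} [Field F] {P : Subgroup (GL (Fin n) F)}
    (h : ActsAbsolutelyIrreducibly (matrixSet P)) {x : GL (Fin n) F} (hx : ∀ y ∈ P, x * y = y * x) :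
    x ∈ scalars (Fin n) F := by
  rw [mem_scalars_iff]
  obtain ⟨c, hc⟩ := h.2 (x : Matrix (Fin n) (Fin n) F) (by
    rintro _ ⟨y, hy, rfl⟩
    rw [← Units.val_mul, ← Units.val_mul, hx y hy])
  by_cases hn : Nonempty (Fin n)
  · obtain ⟨i⟩ := hn
    have hc0 : c ≠ 0 := by
      rintro rfl
      rw [zero_smul] at hc
      have h1 : ((x⁻¹ : GL (Fin n) F) : Matrix (Fin n) (Fin n) F) * (x : Matrix (Fin n) (Fin n) F) = 1 := by
        rw [← Units.val_mul, inv_mul_cancel, Units.val_one]
      rw [hc, Matrix.mul_zero] at h1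
      have h2 := congrFun (congrFun h1 i) i
      rw [Matrix.one_apply_eq] at h2
      exact zero_ne_one h2
    exact ⟨Units.mk0 c hc0, hc⟩
  · refine ⟨1, ?_⟩
    ext i
    exact (hn ⟨i⟩).elim

theorem scalar_central {F : Type*} [Field F] {x : GL (Fin n) F} (hx : x ∈ scalars (Fin n) F) (y : GL (Fin n) F) :
    x * y = y * x := by
  rw [mem_scalars_iff] at hx
  obtain ⟨c, hc⟩ := hx
  apply Units.ext
  rw [Units.val_mul, Units.val_mul, hc, Matrix.smul_mul, Matrix.mul_smul, Matrix.one_mul, Matrix.mul_one]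

variable {L : Type u} [Group L]

/-- the socle of the image is `L / Z(L)` -/
theorem exists_soc_equiv {F : Type*} [Field F] {σ : L →* GL (Fin n) F} (hσ : Function.Injective σ)
    (h : ActsAbsolutelyIrreducibly (matrixSet σ.range)) :
    Nonempty (Soc σ.range ≃* L ⧸ Subgroup.center L) := by
  let e : L ≃* σ.range := MonoidHom.ofInjective hσ
  have he : ∀ l, ((e l : σ.range) : GL (Fin n) F) = σ l := fun l => rfl
  refine ⟨(QuotientGroup.congr (Subgroup.center L) ((scalars (Fin n) F).subgroupOf σ.range) e ?_).symm⟩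
  ext x
  obtain ⟨l, rfl⟩ := e.surjective x
  constructor
  · rintro ⟨z, hz, hzl⟩
    have hz' : z = l := e.injective hzl
    subst hz'
    rw [Subgroup.mem_subgroupOf, he]
    refine mem_scalars_of_central h ?_
    rintro _ ⟨m, rfl⟩
    rw [← map_mul, ← map_mul, Subgroup.mem_center_iff.1 hz m]
  · intro hx
    rw [Subgroup.mem_subgroupOf, he] at hx
    refine ⟨l, Subgroup.mem_center_iff.2 fun m => ?_, rfl⟩
    apply hσ
    rw [map_mul, map_mul]
    exact (scalar_central hx _).symm

/-- **A core over a minimal subfield.** -/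
theorem exists_core_of_rep [Finite K] [NeZero n] (hperf : commutator L = ⊤) (hs : IsSimpleGroup (L ⧸ Subgroup.center L))
    (hna : ∃ a b : L, a * b ≠ b * a) {ρ : L →* GL (Fin n) K} (hρ : Function.Injective ρ)
    (h : ActsAbsolutelyIrreducibly (matrixSet ρ.range)) :
    ∃ (F : Subfield K) (σ : L →* GL (Fin n) F) (B : GL (Fin n) K), Function.Injective σ ∧ Core σ.range ∧
      Nonempty (Soc σ.range ≃* L ⧸ Subgroup.center L) ∧ ∀ l, inc F (σ l) = B * ρ l * B⁻¹ := by
  obtain ⟨F, ⟨B, hB⟩, hmin⟩ := exists_min_subfield (matrixSet ρ.range)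
  obtain ⟨σ, hσ⟩ := exists_lift F ((MulAut.conj B).toMonoidHom.comp ρ) (fun l i j => by
    show ((B * ρ l * B⁻¹ : GL (Fin n) K) : Matrix (Fin n) (Fin n) K) i j ∈ F
    rw [Units.val_mul, Units.val_mul]
    exact hB _ ⟨_, ⟨l, rfl⟩, rfl⟩ i j)
  have hσ' : ∀ l, inc F (σ l) = B * ρ l * B⁻¹ := hσ
  have hinj : Function.Injective σ := by
    intro a b hab
    apply hρ
    have h1 := hσ' a
    rw [hab, hσ' b] at h1
    exact (mul_left_cancel (mul_right_cancel h1)).symm
  have hirr : ActsAbsolutelyIrreducibly (matrixSet σ.range) := by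
    refine absIrr_of_inc (R := ρ.range.map (MulAut.conj B).toMonoidHom) ?_ ?_ (absIrr_conj B h)
    · rintro _ ⟨_, ⟨l, rfl⟩, rfl⟩
      exact ⟨σ l, ⟨l, rfl⟩, hσ' l⟩
    · rintro _ ⟨l, rfl⟩
      exact ⟨ρ l, ⟨l, rfl⟩, (hσ' l).symm⟩
  obtain ⟨e⟩ := exists_soc_equiv hinj hirr
  have hperf' : ⁅σ.range, σ.range⁆ = σ.range := by
    rw [MonoidHom.range_eq_map, ← Subgroup.map_commutator]
    congr 1
  refine ⟨F, σ, B, hinj, ⟨hperf', ?_, ?_, hirr, ?_⟩, ⟨e⟩, hσ'⟩
  · have := hs
    exact e.isSimpleGroup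
  · intro hc
    obtain ⟨a, b, hab⟩ := hna
    apply hab
    -- the quotient is commutative, so `L = [L, L]` is central
    have hc' : IsMulCommutative (L ⧸ Subgroup.center L) := ⟨⟨fun x y => by
      apply e.symm.injective
      rw [map_mul, map_mul]
      exact hc.1.1 _ _⟩⟩
    have h1 : commutator L ≤ Subgroup.center L := by
      rw [commutator_def, Subgroup.commutator_le]
      intro x _ y _
      rw [← QuotientGroup.eq_one_iff]
      have h2 : ((x : L ⧸ Subgroup.center L)) * y = y * x := hc'.1.1 _ _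
      show ((x * y * x⁻¹ * y⁻¹ : L) : L ⧸ Subgroup.center L) = 1
      rw [QuotientGroup.mk_mul, QuotientGroup.mk_mul, QuotientGroup.mk_mul, QuotientGroup.mk_inv, QuotientGroup.mk_inv, h2,
        mul_inv_cancel_right, mul_inv_cancel]
    rw [hperf] at h1
    exact (Subgroup.mem_center_iff.1 (h1 (Subgroup.mem_top b)) a)
  · rintro F₁ hF₁ ⟨C, hC⟩
    have hlt : F₁.map F.subtype < F := by
      refine lt_of_le_of_ne ?_ ?_
      · rintro _ ⟨x, -, rfl⟩
        exact x.2
      · intro heq
        apply hF₁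
        refine eq_top_iff.2 fun x _ => ?_
        have h1 : (x : K) ∈ F₁.map F.subtype := by rw [heq]; exact x.2
        obtain ⟨y, hy, hxy⟩ := h1
        have : y = x := Subtype.ext hxy
        rw [← this]
        exact hy
    refine hmin _ hlt ⟨inc F C * B, ?_⟩
    rintro _ ⟨_, ⟨l, rfl⟩, rfl⟩ i j
    have h1 := hC _ ⟨_, ⟨l, rfl⟩, rfl⟩ i j
    refine ⟨_, h1, ?_⟩
    have h2 : inc F (C * σ l * C⁻¹) = inc F C * B * ρ l * (inc F C * B)⁻¹ := by
      rw [map_mul, map_mul, map_inv, hσ']
      group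
    have h3 : ((inc F (C * σ l * C⁻¹) : GL (Fin n) K) : Matrix (Fin n) (Fin n) K) i j =
        ((inc F C * B * ρ l * (inc F C * B)⁻¹ : GL (Fin n) K) : Matrix (Fin n) (Fin n) K) i j := by rw [h2]
    exact h3

end Cfsg.Agent.H267.HT
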