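import Cfsg.Agent.H915.LD

/-!
# A core over a minimal subfield (S3540 T1; helper267)

`K` a finite field, `ρ : L →* GL (Fin n) K` injective, `L` perfect, `L / Z(L)` simple, `ρ` absolutely irreducible. Then there are
a subfield `F`, `σ : L →* GL (Fin n) F` whose image is a `Core`, and `B : GL (Fin n) K` with `σ l = B (ρ l) B⁻¹`.
-/

set_option autoImplicit false
set_option linter.unusedSectionVars false

namespace Cfsg.Agent.H267.HT

open Cfsg Cfsg.Geo Matrix Cfsg.Agent.H915.LD

universe u w

variable {n : ℕ} {K : Type w} [Field K]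

/-- the inclusion of `GL` over a subfield -/
abbrev inc (F : Subfield K) : GL (Fin n) F →* GL (Fin n) K := Matrix.GeneralLinearGroup.map F.subtype

theorem inc_apply (F : Subfield K) (g : GL (Fin n) F) (i j : Fin n) :
    ((inc F g : GL (Fin n) K) : Matrix (Fin n) (Fin n) K) i j = ((g : Matrix (Fin n) (Fin n) F) i j : K) := rfl

theorem inc_coe (F : Subfield K) (g : GL (Fin n) F) :
    ((inc F g : GL (Fin n) K) : Matrix (Fin n) (Fin n) K) = (g : Matrix (Fin n) (Fin n) F).map F.subtype := rfl

theorem map_injective (F : Subfield K) {A B : Matrix (Fin n) (Fin n) F} (h : A.map F.subtype = B.map F.subtype) :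
    A = B := by
  ext i j
  exact congrFun (congrFun h i) j

theorem inc_injective (F : Subfield K) : Function.Injective (inc (n := n) F) := by
  intro g g' h
  apply Units.ext
  apply map_injective F
  rw [← inc_coe, ← inc_coe, h]

theorem mem_matrixSet {F : Type*} [Field F] {R : Subgroup (GL (Fin n) F)} {s : Matrix (Fin n) (Fin n) F} :
    s ∈ matrixSet R ↔ ∃ g ∈ R, (g : Matrix (Fin n) (Fin n) F) = s := Iff.rfl

/-- lifting a homomorphism with entries in a subfield -/
theorem exists_lift {L : Type u} [Group L] (F : Subfield K) (τ : L →* GL (Fin n) K)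
    (h : ∀ l i j, ((τ l : GL (Fin n) K) : Matrix (Fin n) (Fin n) K) i j ∈ F) :
    ∃ σ : L →* GL (Fin n) F, ∀ l, inc F (σ l) = τ l := by
  let A : L → Matrix (Fin n) (Fin n) F := fun l i j => ⟨_, h l i j⟩
  have hA : ∀ l, (A l).map F.subtype = ((τ l : GL (Fin n) K) : Matrix (Fin n) (Fin n) K) := fun l => by
    ext i j; rfl
  let φ : L →* Matrix (Fin n) (Fin n) F :=
    { toFun := A
      map_one' := by
        apply map_injective F
        rw [hA, map_one, Units.val_one, Matrix.map_one _ (map_zero _) (map_one _)]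
      map_mul' := fun a b => by
        apply map_injective F
        rw [Matrix.map_mul, hA, hA, hA, map_mul, Units.val_mul] }
  refine ⟨φ.toHomUnits, fun l => ?_⟩
  apply Units.ext
  rw [inc_coe, MonoidHom.coe_toHomUnits]
  exact hA l

section irr

variable {F : Subfield K} {P : Subgroup (GL (Fin n) F)} {R : Subgroup (GL (Fin n) K)}

/-- absolute irreducibility descends -/
theorem absIrr_of_inc [hn : NeZero n] (hPR : ∀ g ∈ R, ∃ x ∈ P, inc F x = g) (hRP : ∀ x ∈ P, inc F x ∈ R)
    (h : ActsAbsolutelyIrreducibly (matrixSet R)) : ActsAbsolutelyIrreducibly (matrixSet P) := by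
  classical
  refine ⟨fun W hW => ?_, fun M hM => ?_⟩
  · by_cases hT : W = ⊤
    · exact Or.inr hT
    left
    obtain ⟨f, hf0, hfW⟩ := Submodule.exists_le_ker_of_lt_top W (lt_top_iff_ne_top.2 hT)
    -- the span of `W` over `K`
    let ι : (Fin n → F) → (Fin n → K) := fun v i => (v i : K)
    let WK : Submodule K (Fin n → K) := Submodule.span K (ι '' (W : Set (Fin n → F)))
    have hmul : ∀ (x : GL (Fin n) F) (v : Fin n → F),
        ((inc F x : GL (Fin n) K) : Matrix (Fin n) (Fin n) K) *ᵥ ι v = ι ((x : Matrix (Fin n) (Fin n) F) *ᵥ v) := by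
      intro x v
      funext i
      show ∑ j, ((x : Matrix (Fin n) (Fin n) F) i j : K) * (v j : K) =
        ((∑ j, (x : Matrix (Fin n) (Fin n) F) i j * v j : F) : K)
      rw [AddSubmonoidClass.coe_finsetSum]
      rfl
    have hst : ∀ s ∈ matrixSet R, WK.map (Matrix.toLin' s) ≤ WK := by
      rintro _ ⟨g, hg, rfl⟩
      obtain ⟨x, hx, rfl⟩ := hPR g hg
      rw [Submodule.map_span_le]
      rintro _ ⟨v, hv, rfl⟩
      rw [Matrix.toLin'_apply, hmul]
      apply Submodule.subset_span
      refine ⟨_, ?_, rfl⟩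
      have h1 := hW _ ⟨x, hx, rfl⟩ (Submodule.mem_map_of_mem hv)
      rwa [Matrix.toLin'_apply] at h1
    rcases h.1 WK hst with h1 | h1
    · rw [Submodule.eq_bot_iff]
      intro v hv
      have h2 : ι v ∈ WK := Submodule.subset_span ⟨v, hv, rfl⟩
      rw [h1, Submodule.mem_bot] at h2
      funext i
      exact Subtype.ext (congrFun h2 i)
    · exfalso
      apply hf0
      let fK : (Fin n → K) →ₗ[K] K := ∑ i, ((f (Pi.single i 1) : F) : K) • LinearMap.proj i
      have hfK : ∀ v : Fin n → F, fK (ι v) = ((f v : F) : K) := by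
        intro v
        have h2 : f v = ∑ i, f (Pi.single i 1) * v i := by
          conv_lhs => rw [pi_eq_sum_univ' v]
          rw [map_sum]
          refine Finset.sum_congr rfl fun i _ => ?_
          rw [map_smul, smul_eq_mul, mul_comm]
        rw [h2, AddSubmonoidClass.coe_finsetSum]
        show (∑ i, ((f (Pi.single i 1) : F) : K) • (LinearMap.proj i : (Fin n → K) →ₗ[K] K)) (ι v) = _
        rw [LinearMap.sum_apply]
        rfl
      have h3 : WK ≤ LinearMap.ker fK := by
        rw [Submodule.span_le]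
        rintro _ ⟨v, hv, rfl⟩
        rw [SetLike.mem_coe, LinearMap.mem_ker, hfK]
        have h4 : f v = 0 := hfW hv
        rw [h4]; rfl
      rw [h1, top_le_iff, LinearMap.ker_eq_top] at h3
      apply LinearMap.ext
      intro v
      apply Subtype.ext
      rw [← hfK v, h3]
      rfl
  · have hM' : ∀ s ∈ matrixSet R, M.map F.subtype * s = s * M.map F.subtype := by
      rintro _ ⟨g, hg, rfl⟩
      obtain ⟨x, hx, rfl⟩ := hPR g hg
      show M.map F.subtype * (x : Matrix (Fin n) (Fin n) F).map F.subtype =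
        (x : Matrix (Fin n) (Fin n) F).map F.subtype * M.map F.subtype
      rw [← Matrix.map_mul, ← Matrix.map_mul, hM _ ⟨x, hx, rfl⟩]
    obtain ⟨c, hc⟩ := h.2 _ hM'
    have h0 : ((M 0 0 : F) : K) = c := by
      have := congrFun (congrFun hc 0) 0
      rw [Matrix.smul_apply, Matrix.one_apply_eq, smul_eq_mul, mul_one] at this
      exact this
    refine ⟨M 0 0, ?_⟩
    apply map_injective F
    rw [hc, ← h0]
    ext i j
    rw [Matrix.smul_apply, Matrix.map_apply, Matrix.smul_apply, smul_eq_mul, smul_eq_mul, map_mul]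
    by_cases hij : i = j
    · subst hij
      rw [Matrix.one_apply_eq, Matrix.one_apply_eq, map_one]
      rfl
    · rw [Matrix.one_apply_ne hij, Matrix.one_apply_ne hij, map_zero, mul_zero, mul_zero]

end irr

/-- conjugates of absolutely irreducible sets -/
theorem absIrr_conj {F : Type*} [Field F] {R : Subgroup (GL (Fin n) F)} (B : GL (Fin n) F)
    (h : ActsAbsolutelyIrreducibly (matrixSet R)) :
    ActsAbsolutelyIrreducibly (matrixSet (R.map (MulAut.conj B).toMonoidHom)) := by
  have hmem : ∀ g ∈ R, (((B * g * B⁻¹ : GL (Fin n) F)) : Matrix (Fin n) (Fin n) F) ∈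
      matrixSet (R.map (MulAut.conj B).toMonoidHom) := fun g hg => ⟨_, ⟨g, hg, rfl⟩, rfl⟩
  refine ⟨fun W hW => ?_, fun M hM => ?_⟩
  · let b : (Fin n → F) →ₗ[F] (Fin n → F) := Matrix.toLin' (B : Matrix (Fin n) (Fin n) F)
    let b' : (Fin n → F) →ₗ[F] (Fin n → F) := Matrix.toLin' ((B⁻¹ : GL (Fin n) F) : Matrix (Fin n) (Fin n) F)
    have hbb : ∀ v, b (b' v) = v := fun v => by
      show Matrix.toLin' _ (Matrix.toLin' _ v) = v
      rw [Matrix.toLin'_apply, Matrix.toLin'_apply, Matrix.mulVec_mulVec, ← Units.val_mul, mul_inv_cancel, Units.val_one,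
        Matrix.one_mulVec]
    have hbb' : ∀ v, b' (b v) = v := fun v => by
      show Matrix.toLin' _ (Matrix.toLin' _ v) = v
      rw [Matrix.toLin'_apply, Matrix.toLin'_apply, Matrix.mulVec_mulVec, ← Units.val_mul, inv_mul_cancel, Units.val_one,
        Matrix.one_mulVec]
    have hst : ∀ s ∈ matrixSet R, (W.comap b).map (Matrix.toLin' s) ≤ W.comap b := by
      rintro _ ⟨g, hg, rfl⟩
      rw [Submodule.map_le_iff_le_comap]
      intro v hv
      rw [Submodule.mem_comap, Submodule.mem_comap]
      have h1 := hW _ (hmem g hg) (Submodule.mem_map_of_mem hv)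
      rw [Units.val_mul, Units.val_mul, Matrix.toLin'_mul, Matrix.toLin'_mul, LinearMap.comp_apply, LinearMap.comp_apply] at h1
      have h2 : (Matrix.toLin' ((B⁻¹ : GL (Fin n) F) : Matrix (Fin n) (Fin n) F)) (b v) = v := hbb' v
      rw [h2] at h1
      exact h1
    rcases h.1 _ hst with h1 | h1
    · left
      rw [Submodule.eq_bot_iff]
      intro v hv
      have h2 : b' v ∈ W.comap b := by rw [Submodule.mem_comap, hbb]; exact hv
      rw [h1, Submodule.mem_bot] at h2
      rw [← hbb v, h2, map_zero]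
    · right
      rw [Submodule.eq_top_iff']
      intro v
      have h2 : b' v ∈ W.comap b := by rw [h1]; trivial
      rwa [Submodule.mem_comap, hbb] at h2
  · obtain ⟨c, hc⟩ := h.2 (((B⁻¹ : GL (Fin n) F) : Matrix (Fin n) (Fin n) F) * M * (B : Matrix (Fin n) (Fin n) F)) (by
      rintro _ ⟨g, hg, rfl⟩
      have h1 := hM _ (hmem g hg)
      rw [Units.val_mul, Units.val_mul] at h1
      have hB : ((B⁻¹ : GL (Fin n) F) : Matrix (Fin n) (Fin n) F) * (B : Matrix (Fin n) (Fin n) F) = 1 := by
        rw [← Units.val_mul, inv_mul_cancel, Units.val_one]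
      have h2 : ((B⁻¹ : GL (Fin n) F) : Matrix (Fin n) (Fin n) F) *
          (M * ((B : Matrix (Fin n) (Fin n) F) * (g : Matrix (Fin n) (Fin n) F) *
            ((B⁻¹ : GL (Fin n) F) : Matrix (Fin n) (Fin n) F))) * (B : Matrix (Fin n) (Fin n) F) =
          ((B⁻¹ : GL (Fin n) F) : Matrix (Fin n) (Fin n) F) *
          ((B : Matrix (Fin n) (Fin n) F) * (g : Matrix (Fin n) (Fin n) F) *
            ((B⁻¹ : GL (Fin n) F) : Matrix (Fin n) (Fin n) F) * M) * (B : Matrix (Fin n) (Fin n) F) := by rw [h1]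
      calc ((B⁻¹ : GL (Fin n) F) : Matrix (Fin n) (Fin n) F) * M * (B : Matrix (Fin n) (Fin n) F) * g
          = ((B⁻¹ : GL (Fin n) F) : Matrix (Fin n) (Fin n) F) *
          (M * ((B : Matrix (Fin n) (Fin n) F) * (g : Matrix (Fin n) (Fin n) F) *
            ((B⁻¹ : GL (Fin n) F) : Matrix (Fin n) (Fin n) F))) * (B : Matrix (Fin n) (Fin n) F) := by
            simp only [Matrix.mul_assoc, hB, Matrix.mul_one]
        _ = _ := h2
        _ = ((B⁻¹ : GL (Fin n) F) : Matrix (Fin n) (Fin n) F) * (B : Matrix (Fin n) (Fin n) F) * g *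
            (((B⁻¹ : GL (Fin n) F) : Matrix (Fin n) (Fin n) F) * M * (B : Matrix (Fin n) (Fin n) F)) := by
            simp only [Matrix.mul_assoc]
        _ = _ := by rw [hB, Matrix.one_mul])
    refine ⟨c, ?_⟩
    have hB : (B : Matrix (Fin n) (Fin n) F) * ((B⁻¹ : GL (Fin n) F) : Matrix (Fin n) (Fin n) F) = 1 := by
      rw [← Units.val_mul, mul_inv_cancel, Units.val_one]
    calc M = ((B : Matrix (Fin n) (Fin n) F) * ((B⁻¹ : GL (Fin n) F) : Matrix (Fin n) (Fin n) F)) * M *
          ((B : Matrix (Fin n) (Fin n) F) * ((B⁻¹ : GL (Fin n) F) : Matrix (Fin n) (Fin n) F)) := by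
          rw [hB, Matrix.one_mul, Matrix.mul_one]
      _ = (B : Matrix (Fin n) (Fin n) F) * (((B⁻¹ : GL (Fin n) F) : Matrix (Fin n) (Fin n) F) * M *
          (B : Matrix (Fin n) (Fin n) F)) * ((B⁻¹ : GL (Fin n) F) : Matrix (Fin n) (Fin n) F) := by
          simp only [Matrix.mul_assoc]
      _ = c • 1 := by
          rw [hc, Matrix.mul_smul, Matrix.mul_one, Matrix.smul_mul, hB]

end Cfsg.Agent.H267.HT
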